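import Mathlib

/-!
# The arithmetic of the degrees
-/

set_option autoImplicit false

namespace CfsgLib.Char.GLThreeCent

theorem quartic_ne (x : ℤ) : 21 * x ^ 4 - 296 * x ^ 3 - 328 * x ^ 2 + 96 * x + 80 ≠ 0 := by
  intro h
  have h' := congrArg (Int.cast : ℤ → ZMod 13) h
  push_cast at h'
  exact (by decide : ∀ z : ZMod 13, 21 * z ^ 4 - 296 * z ^ 3 - 328 * z ^ 2 + 96 * z + 80 ≠ 0) _ h'

theorem no_two {x y : ℤ} (hx : x + 1 ≠ 0) (hA : y * (x - 8) + 4 * (x + 1) = 0)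
    (hB : 2 * (x ^ 2 - 4 * x + 4) * (y * (y + 1)) = (y ^ 2 - 20 * y + 4) * (x * (x + 1))) :
    False := by
  have h8 : x - 8 ≠ 0 := fun h => by rw [h] at hA; omega
  have h : (x + 1) * (x - 8) * (-4 * (19 * x ^ 2 + 4 * x + 12)) = 0 := by
    linear_combination (x - 8) ^ 2 * hB -
      ((x - 1) * (x - 8) * (y * (x - 8) - 4 * (x + 1)) +
        ((x - 1) * (x - 8) + 21 * (x * (x + 1))) * (x - 8)) * hA
  have h2 : 19 * x ^ 2 + 4 * x + 12 ≠ 0 := by nlinarith [sq_nonneg (x + 1), sq_nonneg x]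
  simp [hx, h8, h2] at h

theorem no_four {x y : ℤ} (hx0 : x ≠ 0) (hx : x + 1 ≠ 0)
    (hA : (x - 8) * y ^ 2 + (-x * (x - 8) + 12 * (x + 1)) * y - 16 * x * (x + 1) = 0)
    (hB : 2 * (x ^ 2 - 4 * x + 4) * (y * (y + 1)) = (y ^ 2 + 8 * y + 16) * (x * (x + 1))) :
    False := by
  by_cases h1 : x = 1
  · subst h1
    have h2 : y * (31 - 7 * y) = 32 := by linarith
    have h3 : 1 ≤ y := by nlinarith
    have h4 : y ≤ 4 := by nlinarith
    interval_cases y <;> norm_num at h2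
  set P := x ^ 3 - 27 * x ^ 2 - 8 * x + 20 with hP
  have hy : P * y + 16 * x * (x + 1) * (x - 2) = 0 := by
    linear_combination hB - (x - 1) * hA
  have h : 16 * (x * (x + 1)) * ((x + 1) * (x - 1) *
      (21 * x ^ 4 - 296 * x ^ 3 - 328 * x ^ 2 + 96 * x + 80)) = 0 := by
    linear_combination P ^ 2 * hB -
      ((x - 1) * (x - 8) * (P * y - 16 * x * (x + 1) * (x - 2)) +
        ((x - 1) * (x - 8) - 7 * (x * (x + 1))) * P) * hy
  simp [hx0, hx, sub_ne_zero.2 h1, quartic_ne x] at h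

theorem order_three {g x y : ℤ} (h3 : 3 ∣ g) (h16 : 16 ∣ g) (h32 : ¬ 32 ∣ g)
    (hA : y = x + 1 ∨ y * (x - 8) = -9 * x)
    (hB : 2 * (x ^ 2 - 4 * x + 4) * (y * (y + 1)) = (y ^ 2 - 6 * y + 9) * (x * (x + 1)))
    (hg : g * (x ^ 2 - 4 * x + 4) = 4608 * (x * (x + 1))) : g = 5616 ∨ g = 7920 := by
  obtain ⟨m, rfl⟩ := h16
  have hm : m % 2 = 1 := by omega
  have hm3 : m % 3 = 0 := by omega
  obtain ⟨e, rfl | rfl⟩ : ∃ e, x = 2 * e + 2 ∨ x = 2 * e + 3 := ⟨(x - 2) / 2, by omega⟩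
  swap
  · have h : m * (2 * e + 1) ^ 2 = 2 * (144 * ((2 * e + 3) * (2 * e + 4))) := by linarith
    have h' := congrArg (fun z : ℤ => (z : ZMod 2)) h
    simp only [Int.cast_mul, Int.cast_pow, Int.cast_add, Int.cast_ofNat, Int.cast_one,
      show (2 : ZMod 2) = 0 from rfl, zero_mul, zero_add, one_pow, mul_one] at h'
    rw [ZMod.intCast_zmod_eq_zero_iff_dvd] at h'
    omega
  have h1 : m * e ^ 2 = 144 * ((e + 1) * (2 * e + 3)) := by linarith
  obtain ⟨f, rfl | rfl⟩ : ∃ f, e = 2 * f ∨ e = 2 * f + 1 := ⟨e / 2, by omega⟩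
  swap
  · have h : m = 2 * (72 * ((2 * f + 2) * (4 * f + 5)) - m * (2 * f ^ 2 + 2 * f)) := by linarith
    omega
  have h2 : m * f ^ 2 = 36 * ((2 * f + 1) * (4 * f + 3)) := by linarith
  obtain ⟨u, rfl | rfl⟩ : ∃ u, f = 2 * u ∨ f = 2 * u + 1 := ⟨f / 2, by omega⟩
  swap
  · have h : m = 2 * (18 * ((4 * u + 3) * (8 * u + 7)) - m * (2 * u ^ 2 + 2 * u)) := by linarith
    omega
  have h3' : m * u ^ 2 = 9 * ((4 * u + 1) * (8 * u + 3)) := by linarith
  have hu : u ∣ 27 := ⟨m * u - 288 * u - 180, by linarith⟩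
  have hb1 : u ≤ 27 := Int.le_of_dvd (by norm_num) hu
  have hb2 : -u ≤ 27 := Int.le_of_dvd (by norm_num) (neg_dvd.2 hu)
  have hb3 : -27 ≤ u := by linarith
  interval_cases u
  all_goals first
    | omega
    | (rcases hA with rfl | hA
       · norm_num at hB
       · omega)

end CfsgLib.Char.GLThreeCent
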