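import Cfsg.Agent.Lib.Char.GramSearch.Basic
import Cfsg.Agent.Lib.Char.Orthogonality

/-!
# Constituents of the four induced functions and the column bound
-/

set_option autoImplicit false
set_option linter.unusedSectionVars false

namespace CfsgLib.Char.GLThreeCent

open Cfsg CfsgLib.Char CfsgLib.Char.Signed CfsgLib.Char.GramSearch
open scoped ComplexConjugate

universe u

/-- The Gram matrix of the principal character and the four functions. -/
def gTable : List (List ℤ) :=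
  [[1, 1, 1, 1, 0], [1, 3, 2, 1, 1], [1, 2, 3, 1, 0], [1, 1, 1, 3, -1], [0, 1, 0, -1, 3]]

/-- Its entries. -/
def gEntry (i j : ℕ) : ℤ := (gTable.getD i []).getD j 0

theorem run_gEntry : run gEntry 5 =
    [[[1, 1, 1, 1, 0], [0, 1, 0, 0, 0], [0, 1, 1, 0, 1], [0, 0, 1, 0, -1], [0, 0, 0, 1, -1],
        [0, 0, 0, 1, 0]],
      [[1, 1, 1, 1, 0], [0, 1, 0, 0, 0], [0, 1, 1, 0, 1], [0, 0, 1, 0, -1], [0, 0, 0, 1, 0],
        [0, 0, 0, 1, -1]],
      [[1, 1, 1, 1, 0], [0, 1, 0, 0, 1], [0, 1, 1, 0, 0], [0, 0, 1, 0, 0], [0, 0, 0, 1, -1],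
        [0, 0, 0, 1, 0], [0, 0, 0, 0, 1]],
      [[1, 1, 1, 1, 0], [0, 1, 0, 0, 1], [0, 1, 1, 0, 0], [0, 0, 1, 0, 0], [0, 0, 0, 1, 0],
        [0, 0, 0, 1, -1], [0, 0, 0, 0, 1]],
      [[1, 1, 1, 1, 0], [0, 1, 1, 0, 0], [0, 1, 0, 0, 1], [0, 0, 1, 0, 0], [0, 0, 0, 1, -1],
        [0, 0, 0, 1, 0], [0, 0, 0, 0, 1]],
      [[1, 1, 1, 1, 0], [0, 1, 1, 0, 0], [0, 1, 0, 0, 1], [0, 0, 1, 0, 0], [0, 0, 0, 1, 0],
        [0, 0, 0, 1, -1], [0, 0, 0, 0, 1]],
      [[1, 1, 1, 1, 0], [0, 1, 1, 0, 1], [0, 1, 0, 0, 0], [0, 0, 1, 0, -1], [0, 0, 0, 1, -1],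
        [0, 0, 0, 1, 0]],
      [[1, 1, 1, 1, 0], [0, 1, 1, 0, 1], [0, 1, 0, 0, 0], [0, 0, 1, 0, -1], [0, 0, 0, 1, 0],
        [0, 0, 0, 1, -1]]] := by decide +kernel

variable {G : Type u} [Group G] [Fintype G]

theorem orth_perm {l l' : List (G → ℂ)} (h : Orth l) (hp : l.Perm l') : Orth l' := by
  refine ⟨fun a ha => h.1 a (hp.mem_iff.2 ha), ?_⟩
  have h2 : l.Pairwise fun a b => iq a b = 0 ∧ iq b a = 0 := by
    refine h.2.imp_of_mem fun {a b} ha hb hab => ⟨hab, ?_⟩
    rwa [iq_comm (h.1 b hb).gen (h.1 a ha).gen]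
  exact ((hp.pairwise_iff fun {a b} hab => hab.symm).1 h2).imp fun hab => hab.1

/-- The decomposition of the five functions. -/
theorem decomp (F : ℕ → G → ℂ) (h0 : F 0 = fun _ => (1 : ℂ)) (hgen : ∀ i < 5, Gen (F i))
    (hgram : ∀ i < 5, ∀ j ≤ i, iq (F i) (F j) = gEntry i j) :
    ∃ a c d e f : G → ℂ, F 1 = F 0 + c + d ∧ F 2 = F 0 + a + d ∧ F 3 = F 0 + e + f ∧
      ((Orth [F 0, a, c, d, e, f] ∧ F 4 = d - a - e) ∨
        ∃ w, Orth [F 0, a, c, d, e, f, w] ∧ F 4 = c - e + w) := by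
  obtain ⟨cs, hcs, l, hl, hlen, -, hrow⟩ := exists_run gEntry F 5
    (fun i hi => ⟨hgen i hi, by interval_cases i <;> decide⟩) hgram
  have r0 := hrow 0 (by norm_num)
  have r1 := hrow 1 (by norm_num)
  have r2 := hrow 2 (by norm_num)
  have r3 := hrow 3 (by norm_num)
  have r4 := hrow 4 (by norm_num)
  rw [run_gEntry] at hcs
  simp only [List.mem_cons, List.not_mem_nil, or_false] at hcs
  rcases hcs with rfl | rfl | rfl | rfl | rfl | rfl | rfl | rfl <;>
    simp only [List.length_cons, List.length_nil] at hlen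
  · obtain ⟨u, A, B, C, E, H, rfl⟩ : ∃ u A B C E H, l = [u, A, B, C, E, H] := by
      match l, hlen with | [u, A, B, C, E, H], _ => exact ⟨u, A, B, C, E, H, rfl⟩
    simp [comb, row] at r0 r1 r2 r3 r4
    obtain rfl : F 0 = u := r0
    refine ⟨C, A, B, E, H, by rw [r1]; abel, by rw [r2]; abel, by rw [r3]; abel, Or.inl ⟨orth_perm hl ?_, by rw [r4]; abel⟩⟩
    classical exact List.perm_iff_count.2 fun z => by simp only [List.count_cons, List.count_nil]; omega
  · obtain ⟨u, A, B, C, E, H, rfl⟩ : ∃ u A B C E H, l = [u, A, B, C, E, H] := by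
      match l, hlen with | [u, A, B, C, E, H], _ => exact ⟨u, A, B, C, E, H, rfl⟩
    simp [comb, row] at r0 r1 r2 r3 r4
    obtain rfl : F 0 = u := r0
    refine ⟨C, A, B, H, E, by rw [r1]; abel, by rw [r2]; abel, by rw [r3]; abel, Or.inl ⟨orth_perm hl ?_, by rw [r4]; abel⟩⟩
    classical exact List.perm_iff_count.2 fun z => by simp only [List.count_cons, List.count_nil]; omega
  · obtain ⟨u, A, B, C, E, H, W, rfl⟩ : ∃ u A B C E H W, l = [u, A, B, C, E, H, W] := by
      match l, hlen with | [u, A, B, C, E, H, W], _ => exact ⟨u, A, B, C, E, H, W, rfl⟩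
    simp [comb, row] at r0 r1 r2 r3 r4
    obtain rfl : F 0 = u := r0
    refine ⟨C, A, B, E, H, by rw [r1]; abel, by rw [r2]; abel, by rw [r3]; abel, Or.inr ⟨W, orth_perm hl ?_, by rw [r4]; abel⟩⟩
    classical exact List.perm_iff_count.2 fun z => by simp only [List.count_cons, List.count_nil]; omega
  · obtain ⟨u, A, B, C, E, H, W, rfl⟩ : ∃ u A B C E H W, l = [u, A, B, C, E, H, W] := by
      match l, hlen with | [u, A, B, C, E, H, W], _ => exact ⟨u, A, B, C, E, H, W, rfl⟩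
    simp [comb, row] at r0 r1 r2 r3 r4
    obtain rfl : F 0 = u := r0
    refine ⟨C, A, B, H, E, by rw [r1]; abel, by rw [r2]; abel, by rw [r3]; abel, Or.inr ⟨W, orth_perm hl ?_, by rw [r4]; abel⟩⟩
    classical exact List.perm_iff_count.2 fun z => by simp only [List.count_cons, List.count_nil]; omega
  · obtain ⟨u, A, B, C, E, H, W, rfl⟩ : ∃ u A B C E H W, l = [u, A, B, C, E, H, W] := by
      match l, hlen with | [u, A, B, C, E, H, W], _ => exact ⟨u, A, B, C, E, H, W, rfl⟩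
    simp [comb, row] at r0 r1 r2 r3 r4
    obtain rfl : F 0 = u := r0
    refine ⟨C, B, A, E, H, by rw [r1]; abel, by rw [r2]; abel, by rw [r3]; abel, Or.inr ⟨W, orth_perm hl ?_, by rw [r4]; abel⟩⟩
    classical exact List.perm_iff_count.2 fun z => by simp only [List.count_cons, List.count_nil]; omega
  · obtain ⟨u, A, B, C, E, H, W, rfl⟩ : ∃ u A B C E H W, l = [u, A, B, C, E, H, W] := by
      match l, hlen with | [u, A, B, C, E, H, W], _ => exact ⟨u, A, B, C, E, H, W, rfl⟩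
    simp [comb, row] at r0 r1 r2 r3 r4
    obtain rfl : F 0 = u := r0
    refine ⟨C, B, A, H, E, by rw [r1]; abel, by rw [r2]; abel, by rw [r3]; abel, Or.inr ⟨W, orth_perm hl ?_, by rw [r4]; abel⟩⟩
    classical exact List.perm_iff_count.2 fun z => by simp only [List.count_cons, List.count_nil]; omega
  · obtain ⟨u, A, B, C, E, H, rfl⟩ : ∃ u A B C E H, l = [u, A, B, C, E, H] := by
      match l, hlen with | [u, A, B, C, E, H], _ => exact ⟨u, A, B, C, E, H, rfl⟩
    simp [comb, row] at r0 r1 r2 r3 r4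
    obtain rfl : F 0 = u := r0
    refine ⟨C, B, A, E, H, by rw [r1]; abel, by rw [r2]; abel, by rw [r3]; abel, Or.inl ⟨orth_perm hl ?_, by rw [r4]; abel⟩⟩
    classical exact List.perm_iff_count.2 fun z => by simp only [List.count_cons, List.count_nil]; omega
  · obtain ⟨u, A, B, C, E, H, rfl⟩ : ∃ u A B C E H, l = [u, A, B, C, E, H] := by
      match l, hlen with | [u, A, B, C, E, H], _ => exact ⟨u, A, B, C, E, H, rfl⟩
    simp [comb, row] at r0 r1 r2 r3 r4
    obtain rfl : F 0 = u := r0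
    refine ⟨C, B, A, H, E, by rw [r1]; abel, by rw [r2]; abel, by rw [r3]; abel, Or.inl ⟨orth_perm hl ?_, by rw [r4]; abel⟩⟩
    classical exact List.perm_iff_count.2 fun z => by simp only [List.count_cons, List.count_nil]; omega

/-- A generalized character takes integral values at involutions. -/
theorem exists_int_invol {f : G → ℂ} (hf : Gen f) {x : G} (hx : x * x = 1) :
    ∃ n : ℤ, f x = n := by
  obtain ⟨p, q, hp, hq, rfl⟩ := hf
  have key : ∀ {χ : G → ℂ}, IsCharacter G χ → ∃ n : ℤ, χ x = n := by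
    rintro χ ⟨n, ρ, rfl⟩
    obtain ⟨b, μ, hμ, -, htr⟩ := exists_eigen_data ρ x
    have h2 : ∀ i, μ i = 1 ∨ μ i = -1 := fun i => by
      refine mul_self_eq_one_iff.1 ?_
      rw [← pow_two]
      obtain ⟨c, hc⟩ := orderOf_dvd_of_pow_eq_one (by rw [pow_two, hx] : x ^ 2 = 1)
      rw [hc, pow_mul, hμ i, one_pow]
    have h3 : ∀ i, ∃ m : ℤ, μ i = m := fun i =>
      (h2 i).elim (fun h => ⟨1, by simp [h]⟩) fun h => ⟨-1, by simp [h]⟩
    choose m hm using h3
    exact ⟨∑ i, m i, by rw [← pow_one x, htr 1]; simp [hm]⟩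
  obtain ⟨a, ha⟩ := key hp
  obtain ⟨b, hb⟩ := key hq
  exact ⟨a - b, by rw [Pi.sub_apply, ha, hb]; push_cast; rfl⟩

/-- Column orthogonality for orthogonal signed irreducibles. -/
theorem column_le {l : List (G → ℂ)} (hl : Orth l) (x : G) :
    (l.map fun v => Complex.normSq (v x)).sum ≤
      (Nat.card (Subgroup.centralizer ({x} : Set G)) : ℝ) := by
  classical
  haveI := Fintype.ofFinite (IrrCharacter G)
  suffices h : ∃ s : Finset (IrrCharacter G),
      (∀ χ ∈ s, ∃ v ∈ l, iq v (χ : G → ℂ) ≠ 0) ∧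
        (l.map fun v => Complex.normSq (v x)).sum =
          ∑ χ ∈ s, Complex.normSq ((χ : G → ℂ) x) by
    obtain ⟨s, -, hs⟩ := h
    have h := congrArg Complex.re (sum_irr_mul_conj x x)
    rw [if_pos (IsConj.refl x), Complex.re_sum, Complex.natCast_re] at h
    simp only [Complex.mul_conj, Complex.ofReal_re] at h
    rw [hs, ← h]
    exact Finset.sum_le_sum_of_subset_of_nonneg (Finset.subset_univ _)
      fun χ _ _ => Complex.normSq_nonneg _
  induction l with
  | nil => exact ⟨∅, by simp, by simp⟩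
  | cons v l ih =>
    obtain ⟨hsg, hp⟩ := hl
    rw [List.pairwise_cons] at hp
    obtain ⟨s, hs, hsum⟩ := ih ⟨fun y hy => hsg y (List.mem_cons_of_mem _ hy), hp.2⟩
    obtain ⟨χ, ε, hε, hv⟩ := (hsg v List.mem_cons_self).exists_irr
    have hiq : iq v (χ : G → ℂ) = ε := by
      rw [hv, iq_smul_left (Sg.of_irr χ).gen (Sg.of_irr χ).gen, (Sg.of_irr χ).iq_self, mul_one]
    have hχ : χ ∉ s := by
      intro hmem
      obtain ⟨y, hy, hyχ⟩ := hs χ hmem
      have hyg := (hsg y (List.mem_cons_of_mem _ hy)).gen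
      have h0 := hp.1 y hy
      rw [hv, iq_smul_left (Sg.of_irr χ).gen hyg, iq_comm (Sg.of_irr χ).gen hyg] at h0
      rcases hε with rfl | rfl <;> omega
    refine ⟨insert χ s, fun η hη => ?_, ?_⟩
    · rcases Finset.mem_insert.1 hη with rfl | h
      · exact ⟨v, List.mem_cons_self, by rw [hiq]; omega⟩
      · obtain ⟨y, hy, hyη⟩ := hs η h
        exact ⟨y, List.mem_cons_of_mem _ hy, hyη⟩
    · rw [Finset.sum_insert hχ, List.map_cons, List.sum_cons, hsum, hv]
      congr 1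
      rcases hε with rfl | rfl <;> simp

end CfsgLib.Char.GLThreeCent
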