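import Cfsg.Agent.Lib.Char.GLThreeCent.Local
import Cfsg.Agent.Lib.Char.TI
import Cfsg.Agent.Lib.Char.SignedIrr

/-!
# The induced functions
-/

open Subgroup

set_option autoImplicit false
set_option linter.unusedSectionVars false

namespace CfsgLib.Char.GLThreeCent

open Cfsg CfsgLib.Char CfsgLib.Char.Signed
open scoped ComplexConjugate

universe u

/-- The embedding of `ℤ√-2`. -/
noncomputable def toC : ℤ√(-2) →+* ℂ :=
  Zsqrtd.lift ⟨Complex.I * (Real.sqrt 2 : ℝ), by
    rw [mul_mul_mul_comm, Complex.I_mul_I, ← Complex.ofReal_mul, Real.mul_self_sqrt (by norm_num)]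
    push_cast
    ring⟩

theorem conj_toC (z : ℤ√(-2)) : conj (toC z) = toC (star z) := by
  simp [toC, Zsqrtd.lift]

variable {G : Type u} [Group G] [Fintype G] {t : G} {el : Fin 48 → G}

/-- The exceptional set. -/
def Emb.exc (_h : Emb t el) : Set G := {x | ∃ i, inS i ∧ el i = x}

theorem Emb.mem_normalizer_exc (h : Emb t el) {g : G} :
    g ∈ normalizer h.exc ↔ g ∈ centralizer ({t} : Set G) := by
  constructor
  · intro hg
    obtain ⟨j, hj, he⟩ := (Subgroup.mem_set_normalizer_iff.1 hg t).1 ⟨tI, tI_inS, h.map_t⟩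
    exact h.conj_t_of_inS tI_inS hj (by rw [h.map_t, he])
  · intro hg
    have hmap : ∀ i : Fin 48, ∀ x ∈ h.exc, el i * x * (el i)⁻¹ ∈ h.exc := by
      rintro i _ ⟨j, hj, rfl⟩
      exact ⟨_, inS_conj i j hj, by rw [h.mul, h.mul, h.inv]⟩
    obtain ⟨i, rfl⟩ := (h.mem g).1 hg
    refine Subgroup.mem_set_normalizer_iff.2 fun x => ⟨fun hx => hmap i x hx, fun hx => ?_⟩
    have h1 := hmap (invI i) _ hx
    rw [h.inv] at h1
    simpa [mul_assoc] using h1

theorem Emb.exc_ti (h : Emb t el) :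
    ∀ g : G, g ∉ normalizer h.exc → ∀ x ∈ h.exc, g * x * g⁻¹ ∈ h.exc → x = 1 := by
  rintro g hg _ ⟨i, hi, rfl⟩ ⟨j, hj, he⟩
  exact absurd (h.mem_normalizer_exc.2 (h.conj_t_of_inS hi hj he.symm)) hg

/-- The indices as elements of the local subgroup. -/
noncomputable def Emb.equiv (h : Emb t el) : Fin 48 ≃ normalizer h.exc :=
  Equiv.ofBijective (fun i => ⟨el i, h.mem_normalizer_exc.2 ((h.mem _).2 ⟨i, rfl⟩)⟩)
    ⟨fun i j e => h.inj (congrArg Subtype.val e), fun x => by
      obtain ⟨i, hi⟩ := (h.mem _).1 (h.mem_normalizer_exc.1 x.2)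
      exact ⟨i, Subtype.ext hi⟩⟩

theorem Emb.coe_equiv (h : Emb t el) (i : Fin 48) : (h.equiv i : G) = el i := rfl

theorem Emb.symm_mul (h : Emb t el) (x y : normalizer h.exc) :
    h.equiv.symm (x * y) = mulI (h.equiv.symm x) (h.equiv.symm y) := by
  apply h.equiv.injective
  apply Subtype.ext
  rw [Equiv.apply_symm_apply, h.coe_equiv, h.mul, ← h.coe_equiv, ← h.coe_equiv,
    Equiv.apply_symm_apply, Equiv.apply_symm_apply, Subgroup.coe_mul]

theorem Emb.symm_one (h : Emb t el) : h.equiv.symm 1 = oneI := by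
  apply h.equiv.injective
  apply Subtype.ext
  rw [Equiv.apply_symm_apply, h.coe_equiv, h.one, Subgroup.coe_one]

theorem Emb.card_normalizer (h : Emb t el) : (Nat.card (normalizer h.exc) : ℂ) = 48 := by
  rw [← Nat.card_congr h.equiv, Nat.card_fin]
  norm_num

/-- A coded function on the local subgroup. -/
noncomputable def Emb.fn (h : Emb t el) (f : Fin 48 → ℤ√(-2)) : normalizer h.exc → ℂ :=
  fun x => toC (f (h.equiv.symm x))

theorem Emb.gen_fv (h : Emb t el) (k : Fin 4) : Gen (h.fn (fv k)) := by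
  let g : normalizer h.exc →* Matrix (Fin 2) (Fin 2) ℂ :=
    { toFun := fun x => (psiMat (h.equiv.symm x)).map toC
      map_one' := by rw [h.symm_one, psiMat_one]; simp
      map_mul' := fun x y => by rw [h.symm_mul, psiMat_mul, Matrix.map_mul] }
  let ρ : Representation ℂ (normalizer h.exc) (Fin 2 → ℂ) :=
    (Matrix.toLinAlgEquiv' (R := ℂ) (n := Fin 2)).toMonoidHom.comp g
  have hψ : IsCharacter (normalizer h.exc) (h.fn chPsi) := by
    refine ⟨2, ρ, funext fun x => ?_⟩
    show LinearMap.trace ℂ _ (Matrix.toLin' ((psiMat (h.equiv.symm x)).map toC)) = _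
    rw [Matrix.trace_toLin'_eq]
    simp [Matrix.trace, Matrix.diag, Emb.fn, chPsi]
  let s : normalizer h.exc →* ℂ :=
    { toFun := fun x => toC (sgn (h.equiv.symm x))
      map_one' := by rw [h.symm_one, sgn_one, map_one]
      map_mul' := fun x y => by rw [h.symm_mul, sgn_mul, map_mul] }
  have hψg : Gen (h.fn chPsi) := isGeneralizedCharacter_of_isCharacter hψ
  have hψc : Gen (fun x => conj (h.fn chPsi x)) :=
    isGeneralizedCharacter_of_isCharacter (isCharacter_conj hψ)
  have hs : Gen (h.fn sgn) :=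
    isGeneralizedCharacter_of_isCharacter (isCharacter_of_isIrr (isIrrCharacter_lin s.toHomUnits))
  have h1 : Gen (h.fn fun _ => 1) := by
    refine (funext fun x => ?_ : h.fn (fun _ => 1) = fun _ => 1) ▸
      isGeneralizedCharacter_of_isCharacter (isCharacter_of_isIrr isIrrCharacter_one)
    simp [Emb.fn]
  have hadd : ∀ {a b : Fin 48 → ℤ√(-2)}, Gen (h.fn a) → Gen (h.fn b) →
      Gen (h.fn fun i => a i + b i) := fun {a b} ha hb => by
    refine (funext fun x => ?_ : h.fn (fun i => a i + b i) = h.fn a + h.fn b) ▸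
      isGeneralizedCharacter_add ha hb
    simp [Emb.fn]
  have hsub : ∀ {a b : Fin 48 → ℤ√(-2)}, Gen (h.fn a) → Gen (h.fn b) →
      Gen (h.fn fun i => a i - b i) := fun {a b} ha hb => by
    refine (funext fun x => ?_ : h.fn (fun i => a i - b i) = h.fn a - h.fn b) ▸
      isGeneralizedCharacter_sub ha hb
    simp [Emb.fn]
  have hmul : ∀ {a b : Fin 48 → ℤ√(-2)}, Gen (h.fn a) → Gen (h.fn b) →
      Gen (h.fn fun i => a i * b i) := fun {a b} ha hb => by
    refine (funext fun x => ?_ : h.fn (fun i => a i * b i) = h.fn a * h.fn b) ▸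
      isGeneralizedCharacter_mul ha hb
    simp [Emb.fn]
  have h3' : Gen (h.fn chThree') := hsub (hmul hψg (by
    refine (funext fun x => ?_ : h.fn (fun i => star (chPsi i)) = fun x => conj (h.fn chPsi x)) ▸ hψc
    simp [Emb.fn, conj_toC])) h1
  have h3 : Gen (h.fn chThree) := hmul hs h3'
  have h2 : Gen (h.fn chTwo) := hsub (hsub (hsub (hmul h3 h3) h1) h3) h3'
  have h4 : Gen (h.fn chFour) := hmul hψg h2
  fin_cases k
  · exact hsub (hadd h1 h2) h3
  · exact hsub (hadd h1 hψg) h3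
  · exact hsub (hadd h1 h3') h4
  · exact hsub (hadd hs h2) h3'

/-- The induced functions. -/
noncomputable def Emb.ind (h : Emb t el) (k : Fin 4) : G → ℂ :=
  indFun (normalizer h.exc) (h.fn (fv k))

theorem Emb.gen_ind (h : Emb t el) (k : Fin 4) : Gen (h.ind k) :=
  isGeneralizedCharacter_indFun _ (h.gen_fv k)

theorem Emb.fn_support (h : Emb t el) (k : Fin 4) :
    ∀ x : normalizer h.exc, (x : G) ∉ h.exc → h.fn (fv k) x = 0 := fun x hx => by
  rw [Emb.fn, fv_support k _ fun hi => hx ⟨_, hi, by rw [← h.coe_equiv, Equiv.apply_symm_apply]⟩,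
    map_zero]

theorem Emb.fn_one (h : Emb t el) (k : Fin 4) : h.fn (fv k) 1 = 0 := by
  rw [Emb.fn, h.symm_one, fv_one, map_zero]

theorem Emb.ind_one (h : Emb t el) (k : Fin 4) : h.ind k 1 = 0 := by
  rw [Emb.ind, indFun_one, h.fn_one, mul_zero]

theorem Emb.ind_t (h : Emb t el) (k : Fin 4) : h.ind k t = toC (fv k tI) := by
  have := indFun_TI_apply h.exc h.exc_ti (h.fn (fv k))
    (isClassFunction_of_isGeneralized (h.gen_fv k)) (h.fn_support k) (h.equiv tI)
    ⟨tI, tI_inS, rfl⟩ (fun e => h.t_invol.2 (by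
      rw [← h.map_t, ← h.coe_equiv, e, Subgroup.coe_one]))
  rw [h.coe_equiv, h.map_t] at this
  rw [Emb.ind, this, Emb.fn, Equiv.symm_apply_apply]

theorem Emb.inner_ind (h : Emb t el) (k l : Fin 4) :
    classInner (h.ind k) (h.ind l) = (gram k l : ℂ) := by
  letI : Fintype (normalizer h.exc) := Fintype.ofEquiv _ h.equiv
  rw [Emb.ind, Emb.ind, classInner_indFun_TI h.exc h.exc_ti _ _
    (isClassFunction_of_isGeneralized (h.gen_fv l)) (h.fn_support k) (h.fn_support l) (h.fn_one k),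
    classInner, h.card_normalizer, ← Equiv.sum_comp h.equiv]
  simp only [Emb.fn, Equiv.symm_apply_apply, conj_toC, ← map_mul, ← map_sum]
  rw [fv_gram k l, map_mul, map_intCast, map_ofNat]
  norm_num
  ring

theorem Emb.inner_ind_one (h : Emb t el) (k : Fin 4) :
    classInner (h.ind k) (fun _ => 1) = if k = 3 then 0 else 1 := by
  letI : Fintype (normalizer h.exc) := Fintype.ofEquiv _ h.equiv
  rw [Emb.ind, classInner_indFun _ _ _ (fun _ _ => rfl), classInner, h.card_normalizer,
    ← Equiv.sum_comp h.equiv]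
  simp only [Emb.fn, Equiv.symm_apply_apply, map_one, mul_one, ← map_sum]
  rw [fv_sum k]
  split <;> simp [map_ofNat]

theorem Emb.qfun_ind (h : Emb t el) (hno2 : ∀ H : Subgroup G, H.index ≠ 2) (k : Fin 4) :
    (Nat.card G : ℂ) * qfun t (h.ind k) = if k = 2 then 9216 else 4608 := by
  classical
  letI : Fintype (normalizer h.exc) := Fintype.ofEquiv _ h.equiv
  have hloc : ∀ x : normalizer h.exc, h.fn (fv k) x ≠ 0 → ∀ y z : G, IsConj t y → IsConj t z →
      y * z = (x : G) → y ∈ normalizer h.exc := by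
    intro x hx y z hy hz hyz
    obtain ⟨i, hi, hix⟩ : (x : G) ∈ h.exc := by
      by_contra hc
      exact hx (h.fn_support k x hc)
    have hsq : ∀ w : G, IsConj t w → w⁻¹ = w := fun w hw => by
      obtain ⟨c, rfl⟩ := isConj_iff.1 hw
      refine inv_eq_of_mul_eq_one_right ?_
      rw [show c * t * c⁻¹ * (c * t * c⁻¹) = c * (t * t) * c⁻¹ by group, h.t_invol.1]
      group
    have hyx : y * el i * y⁻¹ = el (invI i) := by
      rw [h.inv, hix, ← hyz, mul_inv_rev, hsq z hz, hsq y hy, ← mul_assoc]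
      nth_rw 2 [← hsq y hy]
      rw [mul_inv_cancel, one_mul]
    exact h.mem_normalizer_exc.2 (h.conj_t_of_inS hi
      ((by decide +kernel : ∀ i, inS i → inS (invI i)) i hi) hyx)
  obtain ⟨C, -, hC, he⟩ := qfun_indFun (normalizer h.exc) t (h.fn (fv k)) hloc
  rw [Emb.ind, he, hC]
  have hconj : ∀ i, IsConj t (el i) ↔ isInv i := fun i => by
    refine ⟨fun hc => h.isInv_iff.1 ?_, fun hi => ?_⟩
    · obtain ⟨c, hc⟩ := isConj_iff.1 hc
      rw [← hc, show c * t * c⁻¹ * (c * t * c⁻¹) = c * (t * t) * c⁻¹ by group, h.t_invol.1]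
      exact ⟨by group, fun e => h.t_invol.2 (conj_eq_one_iff.1 e)⟩
    · exact h.isConj_invol hno2 _ (h.isInv_iff.2 hi).1 (h.isInv_iff.2 hi).2
  let E : {i // isInv i} ≃ {y : normalizer h.exc // IsConj t (y : G)} :=
    h.equiv.subtypeEquiv fun i => by rw [h.coe_equiv]; exact (hconj i).symm
  have hsum : ∑ᶠ p : {y : normalizer h.exc // IsConj t (y : G)} ×
      {y : normalizer h.exc // IsConj t (y : G)}, h.fn (fv k) (p.1.1 * p.2.1) =
      if k = 2 then 192 else 96 := by
    rw [← finsum_comp_equiv (E.prodCongr E), finsum_eq_sum_of_fintype]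
    simp only [Equiv.prodCongr_apply, Prod.map_fst, Prod.map_snd, Emb.fn, h.symm_mul, E,
      Equiv.subtypeEquiv_apply]
    simp only [Equiv.symm_apply_apply, ← map_sum]
    rw [fv_pairs k]
    split <;> simp [map_ofNat]
  have hk : Nat.card G = 48 * Nat.card {x : G // IsConj t x} := by
    rw [card_isConj, ← Subgroup.card_mul_index (Subgroup.centralizer ({t} : Set G)),
      h.card_centralizer]
  have hc0 : (Nat.card {x : G // IsConj t x} : ℂ) ≠ 0 := by
    have : Nonempty {x : G // IsConj t x} := ⟨⟨t, IsConj.refl t⟩⟩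
    exact_mod_cast Nat.card_pos.ne'
  rw [hsum, h.card_normalizer, hk]
  push_cast
  field_simp
  split <;> norm_num

end CfsgLib.Char.GLThreeCent
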