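import Cfsg.Agent.Lib.Char.GLThreeCent.Model
import Cfsg.Agent.Lib.Invol.Basic
import Cfsg.Agent.Lib.Fusion.Tate

/-!
# Fusion of involutions when an involution has centralizer `GL(2, 3)`
-/

open Subgroup

set_option autoImplicit false
set_option linter.unusedSectionVars false

namespace CfsgLib.Char.GLThreeCent

universe u

variable {G : Type u} [Group G]

/-- The coded group as the centralizer of an involution. -/
structure Emb (t : G) (el : Fin 48 → G) : Prop where
  inj : Function.Injective el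
  mul : ∀ i j, el (mulI i j) = el i * el j
  mem : ∀ x, x ∈ centralizer ({t} : Set G) ↔ ∃ i, el i = x
  map_t : el tI = t

variable {t : G} {el : Fin 48 → G}

theorem Emb.one (h : Emb t el) : el oneI = 1 := by
  have e : mulI oneI oneI = oneI := by decide +kernel
  exact mul_eq_left.1 (by rw [← h.mul, e] : el oneI * el oneI = el oneI)

theorem Emb.inv (h : Emb t el) (i : Fin 48) : el (invI i) = (el i)⁻¹ :=
  eq_inv_of_mul_eq_one_right (by rw [← h.mul, mulI_inv, h.one])

theorem Emb.pow (h : Emb t el) (i : Fin 48) : ∀ n : ℕ, el (powI i n) = el i ^ n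
  | 0 => by rw [powI, pow_zero, h.one]
  | n + 1 => by rw [powI, h.mul, h.pow i n, pow_succ]

theorem Emb.eq_one_iff (h : Emb t el) {i : Fin 48} : el i = 1 ↔ i = oneI := by
  rw [← h.one, h.inj.eq_iff]

theorem Emb.isInv_iff (h : Emb t el) {i : Fin 48} : el i * el i = 1 ∧ el i ≠ 1 ↔ isInv i := by
  rw [isInv, ← h.mul, ne_eq, h.eq_one_iff, h.eq_one_iff]

theorem Emb.commute_t (h : Emb t el) (i : Fin 48) : el i * t = t * el i :=
  mem_centralizer_singleton_iff.1 ((h.mem _).2 ⟨i, rfl⟩)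

theorem Emb.t_invol (h : Emb t el) : t * t = 1 ∧ t ≠ 1 := by
  rw [← h.map_t]
  exact h.isInv_iff.2 (by decide +kernel)

theorem Emb.card_centralizer (h : Emb t el) :
    Nat.card (centralizer ({t} : Set G)) = 48 := by
  rw [← Nat.card_fin 48]
  refine (Nat.card_congr (Equiv.ofBijective
    (fun i => (⟨el i, (h.mem _).2 ⟨i, rfl⟩⟩ : centralizer ({t} : Set G))) ⟨fun i j e =>
      h.inj (congrArg Subtype.val e), fun x => ?_⟩)).symm
  obtain ⟨i, hi⟩ := (h.mem _).1 x.2
  exact ⟨i, Subtype.ext hi⟩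

/-- The Sylow subgroup of order sixteen. -/
def Emb.sub (h : Emb t el) : Subgroup G where
  carrier := {x | ∃ i, inP i ∧ el i = x}
  one_mem' := ⟨oneI, inP_facts.1, h.one⟩
  mul_mem' := by
    rintro _ _ ⟨i, hi, rfl⟩ ⟨j, hj, rfl⟩
    exact ⟨mulI i j, inP_mul i j hi hj, h.mul i j⟩
  inv_mem' := by
    rintro _ ⟨i, hi, rfl⟩
    exact ⟨invI i, (by decide +kernel : ∀ i, inP i → inP (invI i)) i hi, h.inv i⟩

theorem Emb.mem_sub (h : Emb t el) {x : G} : x ∈ h.sub ↔ ∃ i, inP i ∧ el i = x := Iff.rfl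

theorem Emb.card_sub (h : Emb t el) : Nat.card h.sub = 16 := by
  rw [← card_inP, ← Nat.card_eq_fintype_card]
  refine (Nat.card_congr (Equiv.ofBijective (fun i : {i // inP i} => (⟨el i, i.1, i.2, rfl⟩ : h.sub))
    ⟨fun i j e => Subtype.ext (h.inj (congrArg Subtype.val e)), ?_⟩)).symm
  rintro ⟨_, i, hi, rfl⟩
  exact ⟨⟨i, hi⟩, rfl⟩

theorem Emb.exists_sylow [Finite G] (h : Emb t el) :
    ∃ S : Sylow 2 G, (S : Subgroup G) = h.sub := by
  haveI : Fact (Nat.Prime 2) := ⟨Nat.prime_two⟩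
  obtain ⟨S, hS⟩ := (IsPGroup.of_card (n := 4) (by rw [h.card_sub]; norm_num) :
    IsPGroup 2 h.sub).exists_le_sylow
  refine ⟨S, (Subgroup.eq_of_le_of_card_ge hS ?_).symm⟩
  have htP : t ∈ h.sub := ⟨tI, inP_facts.2.1, h.map_t⟩
  haveI : Nontrivial (S : Subgroup G) := ⟨⟨⟨t, hS htP⟩, 1, fun e =>
    h.t_invol.2 (congrArg Subtype.val e)⟩⟩
  haveI := S.2.center_nontrivial
  obtain ⟨k, hk⟩ := IsPGroup.iff_card.1 (S.2.to_subgroup (Subgroup.center (S : Subgroup G)))
  have hk0 : k ≠ 0 := fun e' => absurd (Finite.one_lt_card (α := Subgroup.center (S : Subgroup G)))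
    (by rw [hk, e', pow_zero]; exact lt_irrefl 1)
  obtain ⟨⟨⟨z, hzS⟩, hzc⟩, hz⟩ := exists_prime_orderOf_dvd_card'
    (G := Subgroup.center (S : Subgroup G)) 2 (hk ▸ dvd_pow_self 2 hk0)
  have hzo : orderOf z = 2 := by
    rwa [← Subgroup.orderOf_coe, ← Subgroup.orderOf_coe] at hz
  have hzcomm : ∀ y ∈ (S : Subgroup G), y * z = z * y := fun y hy =>
    congrArg Subtype.val (Subgroup.mem_center_iff.1 hzc ⟨y, hy⟩)
  obtain ⟨i, rfl⟩ := (h.mem z).1 (mem_centralizer_singleton_iff.2 (hzcomm t (hS htP)).symm)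
  have hi : i = tI := by
    refine inP_centralizer i (fun j hj => h.inj ?_) (h.isInv_iff.1 ?_)
    · rw [h.mul, h.mul, hzcomm _ (hS ⟨j, hj, rfl⟩)]
    · exact ⟨by rw [← pow_two, ← hzo, pow_orderOf_eq_one], Invol.invol_ne_one hzo⟩
  subst hi
  rw [h.map_t] at hzcomm
  have hle : (S : Subgroup G) ≤ centralizer ({t} : Set G) := fun y hy =>
    mem_centralizer_singleton_iff.2 (hzcomm y hy)
  obtain ⟨m, hm⟩ := IsPGroup.iff_card.1 S.2
  have hd : 2 ^ m ∣ 48 := by
    rw [← hm, ← h.card_centralizer]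
    exact Subgroup.card_dvd_of_le hle
  rw [h.card_sub, hm]
  have hm4 : m ≤ 4 := by
    by_contra hc
    exact absurd ((pow_dvd_pow 2 (show 5 ≤ m by omega)).trans hd) (by norm_num)
  calc 2 ^ m ≤ 2 ^ 4 := Nat.pow_le_pow_right two_pos hm4
    _ = 16 := by norm_num

theorem Emb.not_dvd_card [Finite G] (h : Emb t el) : ¬ 32 ∣ Nat.card G := by
  haveI : Fact (Nat.Prime 2) := ⟨Nat.prime_two⟩
  intro hd
  obtain ⟨S, hS⟩ := h.exists_sylow
  have h1 := S.pow_dvd_card_of_pow_dvd_card (n := 5) (by simpa using hd)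
  rw [hS, h.card_sub] at h1
  norm_num at h1

/-- Without subgroups of index two, the involutions form one class. -/
theorem Emb.isConj_invol [Finite G] (h : Emb t el) (hno2 : ∀ H : Subgroup G, H.index ≠ 2) (x : G)
    (hxx : x * x = 1) (hx1 : x ≠ 1) : IsConj t x := by
  haveI : Fact (Nat.Prime 2) := ⟨Nat.prime_two⟩
  obtain ⟨S, hS⟩ := h.exists_sylow
  obtain ⟨g, hg⟩ := Invol.exists_conj_le_sylow (Q := Subgroup.zpowers x) (IsPGroup.of_card (n := 1)
    (by rw [Nat.card_zpowers, pow_one]; exact orderOf_eq_prime (by rw [pow_two]; exact hxx) hx1)) S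
  refine IsConj.trans ?_ (isConj_iff.2 ⟨g, rfl⟩).symm
  obtain ⟨i, hiP, hi⟩ : g * x * g⁻¹ ∈ h.sub := hS ▸ hg x (mem_zpowers x)
  have hinv : ∀ k : G, k * el i * k⁻¹ * (k * el i * k⁻¹) = 1 ∧ k * el i * k⁻¹ ≠ 1 := by
    intro k
    rw [hi, show k * (g * x * g⁻¹) * k⁻¹ * (k * (g * x * g⁻¹) * k⁻¹) =
      k * g * (x * x) * g⁻¹ * k⁻¹ by group, hxx]
    refine ⟨by group, fun e => hx1 (conj_eq_one_iff.1 (conj_eq_one_iff.1 e))⟩
  rw [← hi]
  by_contra hno
  have ho : orderOf (el gI) = 8 := by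
    refine (orderOf_eq_iff (by norm_num)).2 ⟨by rw [← h.pow, gI_pow.2.1, h.one], fun m hm hm0 e => ?_⟩
    rw [← h.pow, h.eq_one_iff, show oneI = powI gI (0 : Fin 8).val from rfl] at e
    exact absurd (congrArg Fin.val (gI_pow.2.2 ⟨m, hm⟩ 0 e)) (Nat.pos_iff_ne_zero.1 hm0)
  have hQle : Subgroup.zpowers (el gI) ≤ (S : Subgroup G) :=
    zpowers_le.2 (hS ▸ ⟨gI, inP_facts.2.2.1, rfl⟩)
  have hQi : (Subgroup.zpowers (el gI)).relIndex (S : Subgroup G) = 2 := by
    have h1 := ((Subgroup.zpowers (el gI)).subgroupOf (S : Subgroup G)).card_mul_index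
    rw [Nat.card_congr (subgroupOfEquivOfLe hQle).toEquiv, Nat.card_zpowers, ho] at h1
    have h2 : Nat.card (S : Subgroup G) = 16 := by rw [hS, h.card_sub]
    unfold Subgroup.relIndex
    omega
  obtain ⟨M, -, hMi, -⟩ := Fusion.thompson_transfer S hQle hQi (u := el i)
    (by have := (hinv 1).1; simpa [pow_two] using this) (fun k hk => by
    obtain ⟨j, hj⟩ := hk
    change el gI ^ j = _ at hj
    rw [← zpow_mod_orderOf, ho] at hj
    obtain ⟨n, hn⟩ : ∃ n : ℕ, j % ((8 : ℕ) : ℤ) = n := ⟨(j % 8).toNat, by omega⟩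
    have hn8 : n < 8 := by omega
    rw [hn, zpow_natCast, ← h.pow] at hj
    have hii := h.isInv_iff.1 (hj ▸ hinv k)
    refine hno ?_
    have := inS_pow_invol gI gI_pow.1 ⟨n, hn8⟩ hii
    rw [this, h.map_t] at hj
    exact isConj_iff.2 ⟨k, hj.symm⟩ |>.symm)
  exact hno2 M hMi

/-- An element of the exceptional set determines the involution. -/
theorem Emb.conj_t_of_inS (h : Emb t el) {i j : Fin 48} (hi : inS i) (hj : inS j) {g : G}
    (he : g * el i * g⁻¹ = el j) : g ∈ centralizer ({t} : Set G) := by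
  obtain ⟨k, hk⟩ := hi
  have h1 : el (powI j k.val) = g * t * g⁻¹ := by rw [h.pow, ← he, conj_pow, ← h.pow, hk, h.map_t]
  have h2 : powI j k.val = tI := inS_pow_invol j hj k (h.isInv_iff.1 (by
    rw [h1, show g * t * g⁻¹ * (g * t * g⁻¹) = g * (t * t) * g⁻¹ by group, h.t_invol.1]
    exact ⟨by group, fun e => h.t_invol.2 (conj_eq_one_iff.1 e)⟩))
  rw [h2, h.map_t] at h1
  exact mem_centralizer_singleton_iff.2 (mul_inv_eq_iff_eq_mul.1 h1.symm)

theorem gMat_one : gMat oneI = 1 := by decide +kernel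

/-- The coded model of an isomorphism. -/
theorem exists_emb (t : G) (ht : orderOf t = 2)
    (e : centralizer ({t} : Set G) ≃* Matrix.GeneralLinearGroup (Fin 2) (ZMod 3)) :
    ∃ el : Fin 48 → G, Emb t el := by
  haveI : Fact (Nat.Prime 3) := ⟨Nat.prime_three⟩
  let gl : Fin 48 → GL (Fin 2) (ZMod 3) := fun i =>
    ⟨gMat i, gMat (invI i), (gMat_inv i).1, (gMat_inv i).2⟩
  have hinj : Function.Injective gl := fun i j h => gMat_inj i j (congrArg Units.val h)
  have hmul : ∀ i j, gl (mulI i j) = gl i * gl j := fun i j => Units.ext (gMat_mul i j)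
  have hsurj : Function.Surjective gl := by
    refine ((Nat.bijective_iff_injective_and_card gl).2 ⟨hinj, ?_⟩).2
    rw [Nat.card_fin, Matrix.card_GL_field]
    simp [Fin.prod_univ_two]
  refine ⟨fun i => (e.symm (gl i) : G), fun i j h => hinj (e.symm.injective (Subtype.ext h)),
    fun i j => ?_, fun x => ⟨fun hx => ?_, ?_⟩, ?_⟩
  · show ((e.symm (gl (mulI i j)) : centralizer ({t} : Set G)) : G) = _
    rw [hmul, map_mul, Subgroup.coe_mul]
  · obtain ⟨i, hi⟩ := hsurj (e ⟨x, hx⟩)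
    exact ⟨i, by simp [hi]⟩
  · rintro ⟨i, rfl⟩
    exact (e.symm (gl i)).2
  · obtain ⟨i, hi⟩ := hsurj (e ⟨t, mem_centralizer_singleton_iff.2 rfl⟩)
    have hit : (e.symm (gl i) : G) = t := by rw [hi, MulEquiv.symm_apply_apply]
    have hone : gl oneI = 1 := Units.ext gMat_one
    suffices i = tI by rwa [← this]
    refine central_eq_tI i (fun j => hinj (e.symm.injective (Subtype.ext ?_))) ⟨?_, ?_⟩
    · rw [hmul, hmul, map_mul, map_mul, Subgroup.coe_mul, Subgroup.coe_mul, hit]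
      exact (mem_centralizer_singleton_iff.1 (e.symm (gl j)).2).symm
    · refine hinj (e.symm.injective (Subtype.ext ?_))
      rw [hmul, map_mul, Subgroup.coe_mul, hit, hone, map_one, Subgroup.coe_one, ← pow_two, ← ht,
        pow_orderOf_eq_one]
    · intro h
      refine Invol.invol_ne_one ht ?_
      rw [← hit, h, hone, map_one, Subgroup.coe_one]

end CfsgLib.Char.GLThreeCent
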