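import Cfsg.Agent.Lib.Char.GLThreeCent.Induced
import Cfsg.Agent.Lib.Char.GLThreeCent.Decomp
import Cfsg.Agent.Lib.Char.GLThreeCent.Arith

/-!
# Groups with an involution centralizer `GL(2, 3)`
-/

open Subgroup

set_option autoImplicit false
set_option linter.unusedSectionVars false
set_option maxHeartbeats 600000

namespace CfsgLib.Char.GLThreeCent

open Cfsg CfsgLib.Char CfsgLib.Char.Signed

universe u

/-- Clearing denominators. -/
theorem cleared {g p x y X Y : ℤ} (hx : x ≠ 0) (hy : y ≠ 0)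
    (h : (g : ℂ) * (1 + (X : ℂ) ^ 2 / x + (Y : ℂ) ^ 2 / y) = p) :
    g * (x * y + X ^ 2 * y + Y ^ 2 * x) = p * (x * y) := by
  apply Int.cast_injective (α := ℂ)
  have hx' : (x : ℂ) ≠ 0 := by exact_mod_cast hx
  have hy' : (y : ℂ) ≠ 0 := by exact_mod_cast hy
  push_cast
  field_simp at h
  linear_combination h

theorem cleared' {g p x y z X Y Z : ℤ} (hx : x ≠ 0) (hy : y ≠ 0) (hz : z ≠ 0)
    (h : (g : ℂ) * ((X : ℂ) ^ 2 / x - (Y : ℂ) ^ 2 / y + (Z : ℂ) ^ 2 / z) = p) :
    g * (X ^ 2 * (y * z) - Y ^ 2 * (x * z) + Z ^ 2 * (x * y)) = p * (x * y * z) := by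
  apply Int.cast_injective (α := ℂ)
  have hx' : (x : ℂ) ≠ 0 := by exact_mod_cast hx
  have hy' : (y : ℂ) ≠ 0 := by exact_mod_cast hy
  have hz' : (z : ℂ) ≠ 0 := by exact_mod_cast hz
  push_cast
  field_simp at h
  linear_combination h

variable {G : Type u} [Group G] [Fintype G] {t : G} {el : Fin 48 → G}

/-- The principal character and the four induced functions. -/
noncomputable def Emb.fam (h : Emb t el) : ℕ → G → ℂ
  | 0 => fun _ => 1
  | 1 => h.ind 0
  | 2 => h.ind 1
  | 3 => h.ind 2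
  | _ => h.ind 3

theorem Emb.card_eq (h : Emb t el) (hno2 : ∀ H : Subgroup G, H.index ≠ 2) :
    Nat.card G = 5616 ∨ Nat.card G = 7920 := by
  have g0 : Gen (h.fam 0) :=
    isGeneralizedCharacter_of_isCharacter (isCharacter_of_isIrr isIrrCharacter_one)
  have s0 : Sg (h.fam 0) := Sg.of_irr (⟨fun _ => 1, isIrrCharacter_one⟩ : IrrCharacter G)
  have h10 : ∀ k : Fin 4, iq (h.ind k) (h.fam 0) = if k = 3 then 0 else 1 := fun k => iq_eq _ (by
    show classInner (h.ind k) (fun _ => 1) = _
    rw [h.inner_ind_one]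
    split <;> simp)
  have hkl : ∀ k l : Fin 4, iq (h.ind k) (h.ind l) = gram k l := fun k l =>
    iq_eq _ (h.inner_ind k l)
  obtain ⟨a, c, d, e, f, e1, e2, e3, hcase⟩ := decomp h.fam rfl
    (fun i hi =>
      match i, hi with
      | 0, _ => g0
      | 1, _ => h.gen_ind 0
      | 2, _ => h.gen_ind 1
      | 3, _ => h.gen_ind 2
      | 4, _ => h.gen_ind 3
      | (n + 5), hn => absurd hn (by omega))
    (fun i hi j hj => by
      match i, j, hi, hj with
      | 0, 0, _, _ => exact s0.iq_self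
      | 1, 0, _, _ => exact h10 0
      | 2, 0, _, _ => exact h10 1
      | 3, 0, _, _ => exact h10 2
      | 4, 0, _, _ => exact h10 3
      | 1, 1, _, _ => exact hkl 0 0
      | 2, 1, _, _ => exact hkl 1 0
      | 2, 2, _, _ => exact hkl 1 1
      | 3, 1, _, _ => exact hkl 2 0
      | 3, 2, _, _ => exact hkl 2 1
      | 3, 3, _, _ => exact hkl 2 2
      | 4, 1, _, _ => exact hkl 3 0
      | 4, 2, _, _ => exact hkl 3 1
      | 4, 3, _, _ => exact hkl 3 2
      | 4, 4, _, _ => exact hkl 3 3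
      | 0, (n + 1), _, hn => omega
      | 1, (n + 2), _, hn => omega
      | 2, (n + 3), _, hn => omega
      | 3, (n + 4), _, hn => omega
      | 4, (n + 5), _, hn => omega
      | (m + 5), _, hm, _ => omega)
  obtain ⟨t1, t2, t3, t4⟩ := fv_t
  have tv : ∀ k, h.ind k t = toC (fv k tI) := h.ind_t
  have hmem : ∀ {l : List (G → ℂ)}, Orth l → ∀ v ∈ l,
      Sg v ∧ (∃ X : ℤ, v t = X) ∧ ∃ D : ℤ, D ≠ 0 ∧ v 1 = D := fun {l} hl v hv =>
    ⟨hl.1 v hv, exists_int_invol (hl.1 v hv).gen h.t_invol.1, (hl.1 v hv).apply_one_int⟩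
  have h6 : Orth [h.fam 0, a, c, d, e, f] := by
    rcases hcase with ⟨ho, -⟩ | ⟨w, ho, -⟩
    · exact ho
    · exact ⟨fun v hv => ho.1 v (by simp only [List.mem_cons] at hv ⊢; tauto),
        ho.2.sublist (List.sublist_append_left [h.fam 0, a, c, d, e, f] [w])⟩
  obtain ⟨sa, ⟨at', hat⟩, A, hA0, hA⟩ := hmem h6 a (by simp)
  obtain ⟨sc, ⟨ct, hct⟩, x, hx0, hx⟩ := hmem h6 c (by simp)
  obtain ⟨sd, ⟨dt, hdt⟩, D, hD0, hD⟩ := hmem h6 d (by simp)
  obtain ⟨se, ⟨et, het⟩, y, hy0, hy⟩ := hmem h6 e (by simp)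
  obtain ⟨sf, ⟨ft, hft⟩, F, hF0, hF⟩ := hmem h6 f (by simp)
  have k1 : 1 + x + D = 0 ∧ 1 + A + D = 0 ∧ 1 + y + F = 0 := by
    have u1 := congrFun e1 1
    have u2 := congrFun e2 1
    have u3 := congrFun e3 1
    simp only [Emb.fam, Pi.add_apply, h.ind_one, hA, hx, hD, hy, hF] at u1 u2 u3
    exact ⟨by exact_mod_cast u1.symm, by exact_mod_cast u2.symm, by exact_mod_cast u3.symm⟩
  have k2 : 1 + ct + dt = 0 ∧ 1 + at' + dt = -4 ∧ 1 + et + ft = 8 := by
    have u1 := congrFun e1 t
    have u2 := congrFun e2 t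
    have u3 := congrFun e3 t
    simp only [Emb.fam, Pi.add_apply, tv, t1, t2, t3, map_neg, map_zero, map_ofNat,
      hat, hct, hdt, het, hft] at u1 u2 u3
    exact ⟨by exact_mod_cast u1.symm, by exact_mod_cast u2.symm, by exact_mod_cast u3.symm⟩
  have q0 : qfun t (h.fam 0) = 1 := by rw [qfun_sg t s0]; simp [Emb.fam]
  set g : ℤ := (Nat.card G : ℤ) with hg
  have hgC : (g : ℂ) = (Nat.card G : ℂ) := by rw [hg, Int.cast_natCast]
  have hq : ∀ (k : Fin 4) (p : ℤ) (v : G → ℂ), h.ind k = v →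
      ((if k = 2 then 9216 else 4608 : ℂ) = (p : ℂ)) → (g : ℂ) * qfun t v = p := by
    intro k p v hv hp
    rw [← hv, hgC, h.qfun_ind hno2, hp]
  have q1 := hq 0 4608 _ e1 (by simp)
  have q2 := hq 1 4608 _ e2 (by simp)
  have q3 := hq 2 9216 _ e3 (by simp)
  rw [qfun_add, qfun_add, q0, qfun_sg t sc, qfun_sg t sd, hct, hdt, hx, hD] at q1
  rw [qfun_add, qfun_add, q0, qfun_sg t sa, qfun_sg t sd, hat, hdt, hA, hD] at q2
  rw [qfun_add, qfun_add, q0, qfun_sg t se, qfun_sg t sf, het, hft, hy, hF] at q3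
  have c1 := cleared hx0 hD0 q1
  have c2 := cleared hA0 hD0 q2
  have c3 := cleared hy0 hF0 q3
  have hgpos : 0 < g := by rw [hg]; exact_mod_cast Nat.card_pos
  obtain rfl : x = A := by omega
  obtain rfl : D = -1 - x := by omega
  obtain rfl : F = -1 - y := by omega
  obtain rfl : dt = -1 - ct := by omega
  obtain rfl : at' = ct - 4 := by omega
  have hct2 : ct = 2 := by
    have : g * (-1 - x) * (8 * ct - 16) = 0 := by linear_combination c1 - c2
    rcases mul_eq_zero.1 this with h' | h'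
    · rcases mul_eq_zero.1 h' with h'' | h''
      · omega
      · exact absurd h'' hD0
    · omega
  subst hct2
  obtain rfl : ft = 7 - et := by omega
  have hg1 : g * (x ^ 2 - 4 * x + 4) = 4608 * (x * (x + 1)) := by linear_combination -c1
  have hg3 : g * (y * (y + 1) + et ^ 2 * (y + 1) - (7 - et) ^ 2 * y) = 9216 * (y * (y + 1)) := by
    linear_combination -c3
  have hB : 2 * (x ^ 2 - 4 * x + 4) * (y * (y + 1)) =
      (y * (y + 1) + et ^ 2 * (y + 1) - (7 - et) ^ 2 * y) * (x * (x + 1)) := by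
    refine mul_left_cancel₀ hgpos.ne' ?_
    linear_combination (2 * (y * (y + 1))) * hg1 - (x * (x + 1)) * hg3
  rcases hcase with ⟨ho, e4⟩ | ⟨w, ho, e4⟩
  · -- impossible shape
    exfalso
    have u4 := congrFun e4 t
    simp only [Emb.fam, Pi.sub_apply, tv, t4, map_zero, hat, hdt, het] at u4
    have k4 : (-1 - 2 : ℤ) - (2 - 4) - et = 0 := by exact_mod_cast u4.symm
    obtain rfl : et = -1 := by omega
    have hcol := column_le ho t
    simp only [List.map_cons, List.map_nil, List.sum_cons, List.sum_nil, Emb.fam, hat, hct, hdt,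
      het, hft, h.card_centralizer] at hcol
    norm_num at hcol
  obtain ⟨sw, ⟨wt, hwt⟩, W, hW0, hW⟩ := hmem ho w (by simp)
  obtain rfl : W = y - x := by
    have u4 := congrFun e4 1
    simp only [Emb.fam, Pi.add_apply, Pi.sub_apply, h.ind_one, hx, hy, hW] at u4
    have : x - y + W = 0 := by exact_mod_cast u4.symm
    omega
  obtain rfl : wt = et - 2 := by
    have u4 := congrFun e4 t
    simp only [Emb.fam, Pi.add_apply, Pi.sub_apply, tv, t4, map_zero, hct, het, hwt] at u4
    have : (2 : ℤ) - et + wt = 0 := by exact_mod_cast u4.symm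
    omega
  have hrange : et = 2 ∨ et = 3 ∨ et = 4 := by
    have hcol := column_le ho t
    simp only [List.map_cons, List.map_nil, List.sum_cons, List.sum_nil, Emb.fam, hat, hct, hdt,
      het, hft, hwt, h.card_centralizer] at hcol
    have hs : ∀ z : ℤ, Complex.normSq (z : ℂ) = ((z * z : ℤ) : ℝ) := fun z => by
      rw [← Complex.ofReal_intCast, Complex.normSq_ofReal, Int.cast_mul]
    simp only [hs, map_one] at hcol
    have h2 : et * et + (7 - et) * (7 - et) + (et - 2) * (et - 2) ≤ 30 := by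
      have : ((et * et + (7 - et) * (7 - et) + (et - 2) * (et - 2) : ℤ) : ℝ) ≤ ((30 : ℤ) : ℝ) := by
        push_cast at hcol ⊢
        linarith
      exact_mod_cast this
    have : et ≤ 4 := by nlinarith
    have : 2 ≤ et := by nlinarith
    omega
  have q4 := hq 3 4608 _ e4 (by simp)
  rw [qfun_add, qfun_sub, qfun_sg t sc, qfun_sg t se, qfun_sg t sw, hct, het, hwt, hx, hy, hW] at q4
  have c4 := cleared' hx0 hy0 hW0 q4
  have hAc : (x ^ 2 - 4 * x + 4) * (y * (y - x)) =
      (x + 1) * (4 * (y * (y - x)) - et ^ 2 * (x * (y - x)) + (et - 2) ^ 2 * (x * y)) := by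
    refine mul_left_cancel₀ (mul_ne_zero hgpos.ne' hx0) ?_
    linear_combination (x * (y * (y - x))) * hg1 - (x * (x + 1)) * c4
  have hx1 : x + 1 ≠ 0 := by omega
  rcases hrange with rfl | rfl | rfl
  · refine (no_two (x := x) (y := y) hx1 ?_ (by linear_combination hB)).elim
    have : x * (y - x) * (y * (x - 8) + 4 * (x + 1)) = 0 := by linear_combination hAc
    simpa [hx0, hW0] using this
  · have h48 : 48 ∣ Nat.card G := h.card_centralizer ▸ Subgroup.card_subgroup_dvd_card _
    have h32 := h.not_dvd_card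
    have hA' : y = x + 1 ∨ y * (x - 8) = -9 * x := by
      have : x * ((y - x - 1) * (y * (x - 8) + 9 * x)) = 0 := by linear_combination hAc
      rcases mul_eq_zero.1 ((mul_eq_zero.1 this).resolve_left hx0) with h' | h'
      · left; omega
      · right; linarith
    rcases order_three (g := g) (by omega) (by omega) (by omega) hA' (by linear_combination hB) hg1
      with h' | h'
    · left; omega
    · right; omega
  · refine (no_four (x := x) (y := y) hx0 hx1 ?_ (by linear_combination hB)).elim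
    have : x * ((x - 8) * y ^ 2 + (-x * (x - 8) + 12 * (x + 1)) * y - 16 * x * (x + 1)) = 0 := by
      linear_combination hAc
    exact (mul_eq_zero.1 this).resolve_left hx0

omit [Fintype G] in
/-- A simple group with an involution centralizer `GL(2, 3)` has order 5616 or 7920. -/
theorem card_of_centralizer_gl [Finite G] [IsSimpleGroup G] (t : G) (ht : orderOf t = 2)
    (e : centralizer ({t} : Set G) ≃* Matrix.GeneralLinearGroup (Fin 2) (ZMod 3)) :
    Nat.card G = 5616 ∨ Nat.card G = 7920 := by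
  cases nonempty_fintype G
  obtain ⟨el, h⟩ := exists_emb t ht e
  refine h.card_eq fun H hH => ?_
  haveI := Subgroup.normal_of_index_eq_two hH
  rcases Subgroup.Normal.eq_bot_or_eq_top (H := H) inferInstance with rfl | rfl
  · rw [Subgroup.index_bot] at hH
    have h48 : 48 ∣ Nat.card G := h.card_centralizer ▸ Subgroup.card_subgroup_dvd_card _
    omega
  · rw [Subgroup.index_top] at hH
    omega

end CfsgLib.Char.GLThreeCent
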