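import Mathlib

/-!
# A coded model of `GL(2, 3)` and some of its generalized characters
-/

set_option autoImplicit false

namespace CfsgLib.Char.GLThreeCent

/-- The elements, coded as `27 a + 9 b + 3 c + d`. -/
def codes : List ℕ := [
  12, 13, 14, 15, 16, 17, 21, 22, 23, 24, 25, 26, 28, 29, 31, 32, 34, 35, 37, 38, 39, 41, 42, 43,
  46, 47, 48, 49, 51, 53, 55, 56, 58, 59, 61, 62, 64, 65, 66, 67, 69, 71, 73, 74, 75, 77, 78, 79]

/-- Indices of the inverses. -/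
def invs : List ℕ := [
  0, 38, 20, 6, 26, 44, 3, 22, 40, 9, 46, 28, 12, 13, 16, 15, 14, 17, 24, 19, 2, 47, 7, 41, 18,
  25, 4, 45, 11, 39, 30, 31, 32, 35, 34, 33, 36, 43, 1, 29, 8, 23, 42, 37, 5, 27, 10, 21]

/-- The entries of a faithful two-dimensional representation over `ℤ√-2`. -/
def psiData : List (List ℤ) := [
  [-1, 0, -1, -1, 0, 0, 1, 0], [0, 0, 1, 0, 1, 0, 0, 1], [1, 0, 0, 1, -1, 0, -1, -1],
  [-1, -1, 0, -1, 2, 0, 1, 1], [2, 0, 1, 1, -1, 1, -1, 0], [-1, 1, -1, 0, -1, -1, 0, -1],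
  [1, 1, 0, 1, -2, 0, -1, -1], [1, -1, 1, 0, 1, 1, 0, 1], [-2, 0, -1, -1, 1, -1, 1, 0],
  [1, 0, 1, 1, 0, 0, -1, 0], [-1, 0, 0, -1, 1, 0, 1, 1], [0, 0, -1, 0, -1, 0, 0, -1],
  [1, 0, 0, 0, 0, 0, 1, 0], [1, 1, -1, 1, -2, 0, -1, -1], [0, 0, 1, 0, -1, 0, -1, 0],
  [-2, 0, -1, -1, 1, -1, 2, 0], [-1, 0, -1, 0, 1, 0, 0, 0], [1, -1, 2, 0, 1, 1, -1, 1],
  [-1, -1, 1, -1, 1, 0, 0, 1], [0, -1, 1, -1, 1, 1, 0, 1], [1, 1, 0, 1, -1, 0, -1, 0],
  [1, 0, 0, 1, 0, 1, -1, 0], [0, 1, -1, 0, -1, -1, 1, -1], [-1, 0, -1, 0, 0, -1, 1, -1],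
  [0, 1, -1, 1, -1, 0, -1, -1], [-1, 0, 0, 0, 1, -1, 1, 0], [-1, 0, -1, -1, 1, -1, 2, 0],
  [1, -1, 1, 0, 0, 1, -1, 0], [0, 1, -1, 0, -1, 0, 0, 0], [1, -1, 2, 0, 0, 1, -1, 1],
  [-1, -1, 1, -1, 2, 0, 1, 1], [-1, 0, 0, 0, 0, 0, -1, 0], [-1, 1, -2, 0, -1, -1, 1, -1],
  [1, 0, 1, 0, -1, 0, 0, 0], [2, 0, 1, 1, -1, 1, -2, 0], [0, 0, -1, 0, 1, 0, 1, 0],
  [1, 0, 0, 0, -1, 1, -1, 0], [0, -1, 1, -1, 1, 0, 1, 1], [0, -1, 1, 0, 1, 0, 0, 0],
  [-1, 1, -2, 0, 0, -1, 1, -1], [1, 0, 1, 1, -1, 1, -2, 0], [-1, 1, -1, 0, 0, -1, 1, 0],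
  [0, 1, -1, 1, -1, -1, 0, -1], [1, 1, -1, 1, -1, 0, 0, -1], [0, -1, 1, 0, 1, 1, -1, 1],
  [1, 0, 1, 0, 0, 1, -1, 1], [-1, -1, 0, -1, 1, 0, 1, 0], [-1, 0, 0, -1, 0, -1, 1, 0]]

/-- The code of an element. -/
def code (i : Fin 48) : ℕ := codes.getD i.val 0

/-- The matrix of an element. -/
def gMat (i : Fin 48) : Matrix (Fin 2) (Fin 2) (ZMod 3) :=
  !![((code i / 27 : ℕ) : ZMod 3), ((code i / 9 % 3 : ℕ) : ZMod 3);
     ((code i / 3 % 3 : ℕ) : ZMod 3), ((code i % 3 : ℕ) : ZMod 3)]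

/-- The product of two codes. -/
def mulCode (x y : ℕ) : ℕ :=
  27 * ((x / 27 * (y / 27) + x / 9 % 3 * (y / 3 % 3)) % 3) +
    9 * ((x / 27 * (y / 9 % 3) + x / 9 % 3 * (y % 3)) % 3) +
    3 * ((x / 3 % 3 * (y / 27) + x % 3 * (y / 3 % 3)) % 3) +
    (x / 3 % 3 * (y / 9 % 3) + x % 3 * (y % 3)) % 3

/-- Multiplication of indices. -/
def mulI (i j : Fin 48) : Fin 48 := Fin.ofNat 48 (codes.idxOf (mulCode (code i) (code j)))

/-- Inversion of indices. -/
def invI (i : Fin 48) : Fin 48 := Fin.ofNat 48 (invs.getD i.val 0)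

/-- The index of the identity. -/
def oneI : Fin 48 := 12

/-- The index of `-1`. -/
def tI : Fin 48 := 31

/-- Powers of indices. -/
def powI (i : Fin 48) : ℕ → Fin 48
  | 0 => oneI
  | n + 1 => mulI (powI i n) i

/-- The elements with a power equal to `-1`. -/
def inS (i : Fin 48) : Prop := ∃ k : Fin 8, powI i k.val = tI

instance : DecidablePred inS := fun _ => Fintype.decidableExistsFintype

/-- The involutions. -/
def isInv (i : Fin 48) : Prop := mulI i i = oneI ∧ i ≠ oneI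

instance : DecidablePred isInv := fun _ => instDecidableAnd

/-- The matrices of the faithful representation. -/
def psiMat (i : Fin 48) : Matrix (Fin 2) (Fin 2) (ℤ√(-2)) :=
  let l := psiData.getD i.val []
  !![⟨l.getD 0 0, l.getD 1 0⟩, ⟨l.getD 2 0, l.getD 3 0⟩;
     ⟨l.getD 4 0, l.getD 5 0⟩, ⟨l.getD 6 0, l.getD 7 0⟩]

/-- The sign of the determinant. -/
def sgn (i : Fin 48) : ℤ√(-2) :=
  if (code i / 27 * (code i % 3) + 2 * (code i / 9 % 3 * (code i / 3 % 3))) % 3 = 1 then 1 else -1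

/-- The character of degree two, faithful. -/
def chPsi (i : Fin 48) : ℤ√(-2) := (psiMat i).trace

/-- The character of degree three with value `-1` at outer involutions. -/
def chThree' (i : Fin 48) : ℤ√(-2) := chPsi i * star (chPsi i) - 1

/-- The character of degree three with value `1` at outer involutions. -/
def chThree (i : Fin 48) : ℤ√(-2) := sgn i * chThree' i

/-- The character of degree two, not faithful. -/
def chTwo (i : Fin 48) : ℤ√(-2) := chThree i * chThree i - 1 - chThree i - chThree' i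

/-- The character of degree four. -/
def chFour (i : Fin 48) : ℤ√(-2) := chPsi i * chTwo i

/-- The four functions. -/
def fv : Fin 4 → Fin 48 → ℤ√(-2)
  | 0, i => 1 + chTwo i - chThree i
  | 1, i => 1 + chPsi i - chThree i
  | 2, i => 1 + chThree' i - chFour i
  | 3, i => sgn i + chTwo i - chThree' i

/-- Their inner products. -/
def gram : Fin 4 → Fin 4 → ℤ
  | 0, 0 => 3 | 1, 1 => 3 | 2, 2 => 3 | 3, 3 => 3
  | 0, 1 => 2 | 1, 0 => 2
  | 0, 2 => 1 | 2, 0 => 1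
  | 0, 3 => 1 | 3, 0 => 1
  | 1, 2 => 1 | 2, 1 => 1
  | 1, 3 => 0 | 3, 1 => 0
  | 2, 3 => -1 | 3, 2 => -1

/-- A semidihedral subgroup of order sixteen. -/
def inP (i : Fin 48) : Prop :=
  i.val ∈ [1, 3, 6, 11, 12, 15, 19, 21, 28, 29, 31, 34, 38, 39, 42, 47]

instance : DecidablePred inP := fun _ => List.instDecidableMemOfLawfulBEq _ _

/-- An element of order eight. -/
def gI : Fin 48 := 1

set_option maxRecDepth 10000

theorem card_inP : Fintype.card {i // inP i} = 16 := by decide +kernel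

theorem inP_mul : ∀ i j, inP i → inP j → inP (mulI i j) := by decide +kernel

theorem inP_facts : inP oneI ∧ inP tI ∧ inP gI ∧ ∀ k : Fin 8, inP (powI gI k.val) := by decide +kernel

theorem inP_centralizer : ∀ i, (∀ j, inP j → mulI i j = mulI j i) → isInv i → i = tI := by
  decide +kernel

theorem gI_pow : inS gI ∧ powI gI 8 = oneI ∧
    ∀ k l : Fin 8, powI gI k.val = powI gI l.val → k = l := by
  decide +kernel

theorem gMat_mul : ∀ i j, gMat (mulI i j) = gMat i * gMat j := by decide +kernel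

theorem gMat_inv : ∀ i, gMat i * gMat (invI i) = 1 ∧ gMat (invI i) * gMat i = 1 := by decide +kernel

theorem gMat_inj : ∀ i j, gMat i = gMat j → i = j := by decide +kernel

theorem psiMat_mul : ∀ i j, psiMat (mulI i j) = psiMat i * psiMat j := by decide +kernel

theorem psiMat_one : psiMat oneI = 1 := by decide +kernel

theorem sgn_mul : ∀ i j, sgn (mulI i j) = sgn i * sgn j := by decide +kernel

theorem sgn_one : sgn oneI = 1 := by decide +kernel

theorem mulI_inv : ∀ i, mulI i (invI i) = oneI := by decide +kernel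

theorem eq_oneI : ∀ i, mulI i i = i → i = oneI := by decide +kernel

theorem central_eq_tI : ∀ i, (∀ j, mulI i j = mulI j i) → isInv i → i = tI := by decide +kernel

theorem fv_support : ∀ k i, ¬ inS i → fv k i = 0 := by decide +kernel

theorem fv_one : ∀ k, fv k oneI = 0 := by decide +kernel

theorem fv_t : fv 0 tI = 0 ∧ fv 1 tI = -4 ∧ fv 2 tI = 8 ∧ fv 3 tI = 0 := by decide +kernel

theorem fv_gram : ∀ k l, ∑ i, fv k i * star (fv l i) = 48 * (gram k l : ℤ√(-2)) := by decide +kernel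

theorem fv_sum : ∀ k, ∑ i, fv k i = if k = 3 then 0 else 48 := by decide +kernel

theorem fv_pairs : ∀ k, ∑ p : {i // isInv i} × {i // isInv i}, fv k (mulI p.1.1 p.2.1) =
    if k = 2 then 192 else 96 := by decide +kernel

theorem oneI_not_inS : ¬ inS oneI := by decide +kernel

theorem tI_inS : inS tI := by decide +kernel

theorem inS_conj : ∀ i j, inS j → inS (mulI (mulI i j) (invI i)) := by decide +kernel

theorem inS_pow_invol : ∀ i, inS i → ∀ k : Fin 8, isInv (powI i k.val) → powI i k.val = tI := by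
  decide +kernel

end CfsgLib.Char.GLThreeCent
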